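import Groth.Prelude.Def_CohB1
import Groth.Agent.ZetaLib.ProjPoints
import Mathlib.AlgebraicGeometry.AffineSpace

/-!
# The standard chart `D₊(X₀) ≅ 𝔸ⁿ_A` of projective space over any ring
-/

set_option autoImplicit false
universe u

noncomputable section

open AlgebraicGeometry CategoryTheory MvPolynomial

namespace Groth.Agent.WDivLib

variable (n : ℕ) (A : Type u) [CommRing A]

theorem X0_mem : (X 0 : MvPolynomial (Fin (n + 1)) A) ∈ CohB1.polyGrading n A 1 :=
  (mem_homogeneousSubmodule 1 _).mpr (isHomogeneous_X A 0)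

/-- Dehomogenisation at `X₀`. -/
abbrev dh0 : MvPolynomial (Fin (n + 1)) A →+* HomogeneousLocalization.Away (CohB1.polyGrading n A) (X 0) :=
  ZetaLib.dehom (CohB1.polyGrading n A) (X0_mem n A)

theorem dh0_self : dh0 n A (X 0) = 1 := by
  rw [dh0, ZetaLib.dehom_of_mem _ _ (X0_mem n A)]
  refine HomogeneousLocalization.val_injective _ ?_
  simp [Localization.mk_self ⟨X 0, (Submonoid.mem_powers (X 0 : MvPolynomial (Fin (n + 1)) A))⟩]

theorem dh0_C (r : A) :
    dh0 n A (C r) = HomogeneousLocalization.fromZeroRingHom (CohB1.polyGrading n A) _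
      (algebraMap A (CohB1.polyGrading n A 0) r) := by
  rw [dh0, ZetaLib.dehom_of_mem _ _ ((mem_homogeneousSubmodule 0 _).mpr (isHomogeneous_C _ r))]
  refine HomogeneousLocalization.val_injective _ ?_
  simp [HomogeneousLocalization.fromZeroRingHom]
  all_goals rfl

/-- Setting `X₀ = 1`. -/
abbrev ev0 : MvPolynomial (Fin (n + 1)) A →+* MvPolynomial (ULift.{u} (Fin n)) A :=
  eval₂Hom C (Fin.cases 1 fun i => X ⟨i⟩)

/-- The inverse of the chart isomorphism. -/
abbrev toAway : MvPolynomial (ULift.{u} (Fin n)) A →+* HomogeneousLocalization.Away (CohB1.polyGrading n A) (X 0) :=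
  eval₂Hom ((dh0 n A).comp C) fun i => dh0 n A (X i.down.succ)

theorem toAway_comp_ev0 : (toAway n A).comp (ev0 n A) = dh0 n A := by
  refine MvPolynomial.ringHom_ext (fun r => by simp) fun j => ?_
  induction j using Fin.cases with
  | zero => simp [dh0_self]
  | succ i => simp

theorem exists_leftInverse :
    ∃ φ : HomogeneousLocalization.Away (CohB1.polyGrading n A) (X 0) →+* MvPolynomial (ULift.{u} (Fin n)) A,
      φ.comp (dh0 n A) = ev0 n A := by
  have hu : IsUnit (ev0 n A (X 0)) := by simp
  refine ⟨(IsLocalization.Away.lift (S := Localization.Away (X 0 : MvPolynomial (Fin (n + 1)) A)) (X 0) hu).comp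
    (algebraMap _ _), ?_⟩
  refine MvPolynomial.ringHom_ext (fun r => ?_) fun j => ?_
  · rw [RingHom.comp_apply, dh0_C, RingHom.comp_apply]
    refine Eq.trans (congrArg _ (?_ : _ = algebraMap (MvPolynomial (Fin (n + 1)) A) _ (C r))) (IsLocalization.Away.lift_eq _ hu _)
    rw [HomogeneousLocalization.algebraMap_apply]
    simp [HomogeneousLocalization.fromZeroRingHom, Localization.mk_one_eq_algebraMap]
    rfl
  · rw [RingHom.comp_apply, dh0, ZetaLib.dehom_of_mem _ _ ((mem_homogeneousSubmodule 1 _).mpr (isHomogeneous_X A j)),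
      RingHom.comp_apply]
    set L := IsLocalization.Away.lift (S := Localization.Away (X 0 : MvPolynomial (Fin (n + 1)) A)) (X 0) hu
    rw [HomogeneousLocalization.algebraMap_apply, HomogeneousLocalization.Away.val_mk, Localization.mk_eq_mk']
    have h := congrArg L (IsLocalization.mk'_spec (Localization.Away (X 0 : MvPolynomial (Fin (n + 1)) A)) (X j)
      (⟨(X 0) ^ 1, 1, rfl⟩ : Submonoid.powers (X 0 : MvPolynomial (Fin (n + 1)) A)))
    rw [map_mul, IsLocalization.Away.lift_eq, IsLocalization.Away.lift_eq] at h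
    simpa using h

theorem toAway_bijective : Function.Bijective (toAway n A) := by
  obtain ⟨φ, hφ⟩ := exists_leftInverse n A
  have h : φ.comp (toAway n A) = RingHom.id _ := by
    refine MvPolynomial.ringHom_ext (fun r => ?_) fun i => ?_
    · have := RingHom.congr_fun hφ (C r)
      simpa using this
    · have := RingHom.congr_fun hφ (X i.down.succ)
      simpa using this
  refine ⟨Function.LeftInverse.injective (g := φ) (RingHom.congr_fun h), fun y => ?_⟩
  obtain ⟨x, rfl⟩ := ZetaLib.dehom_surjective (CohB1.polyGrading n A) (X0_mem n A) y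
  exact ⟨ev0 n A x, RingHom.congr_fun (toAway_comp_ev0 n A) x⟩

/-- The chart with target written as `Proj`. -/
def projChart' : 𝔸(ULift.{u} (Fin n); Spec (CommRingCat.of A)) ⟶ Proj (CohB1.polyGrading n A) :=
  (AffineSpace.SpecIso (ULift.{u} (Fin n)) (CommRingCat.of A)).hom ≫
    Spec.map (CommRingCat.ofHom (RingEquiv.ofBijective (toAway n A) (toAway_bijective n A)).symm.toRingHom) ≫
      Proj.awayι (CohB1.polyGrading n A) (X 0) (X0_mem n A) one_pos

/-- The chart `𝔸ⁿ_A ⟶ ℙⁿ_A` with image `D₊(X₀)`. -/
def projChart : 𝔸(ULift.{u} (Fin n); Spec (CommRingCat.of A)) ⟶ CohB1.ProjSpace n A :=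
  projChart' n A

instance : IsIso (Spec.map (CommRingCat.ofHom
    (RingEquiv.ofBijective (toAway n A) (toAway_bijective n A)).symm.toRingHom)) := by
  have : IsIso (CommRingCat.ofHom (RingEquiv.ofBijective (toAway n A) (toAway_bijective n A)).symm.toRingHom) :=
    (RingEquiv.ofBijective (toAway n A) (toAway_bijective n A)).symm.toCommRingCatIso.isIso_hom
  infer_instance

instance : IsOpenImmersion (projChart' n A) := by
  unfold projChart'
  infer_instance

instance : IsOpenImmersion (projChart n A) := inferInstanceAs (IsOpenImmersion (projChart' n A))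

theorem projChart'_over :
    projChart' n A ≫ Proj.toSpecZero (CohB1.polyGrading n A) ≫
        Spec.map (CommRingCat.ofHom (algebraMap A (CohB1.polyGrading n A 0))) =
      𝔸(ULift.{u} (Fin n); Spec (CommRingCat.of A)) ↘ Spec (CommRingCat.of A) := by
  rw [← cancel_epi (AffineSpace.SpecIso (ULift.{u} (Fin n)) (CommRingCat.of A)).inv,
    AffineSpace.SpecIso_inv_over, projChart']
  simp only [Category.assoc, Iso.inv_hom_id_assoc]
  rw [Proj.awayι_toSpecZero_assoc, ← Spec.map_comp, ← Spec.map_comp]
  refine congrArg Spec.map (CommRingCat.hom_ext (RingHom.ext fun r => ?_))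
  change (RingEquiv.ofBijective (toAway n A) (toAway_bijective n A)).symm
    (HomogeneousLocalization.fromZeroRingHom _ _ (algebraMap A (CohB1.polyGrading n A 0) r)) = C r
  rw [RingEquiv.symm_apply_eq, ← dh0_C, RingEquiv.ofBijective_apply]
  simp

theorem projChart_over :
    projChart n A ≫ CohB1.ProjSpace.toSpec n A =
      𝔸(ULift.{u} (Fin n); Spec (CommRingCat.of A)) ↘ Spec (CommRingCat.of A) :=
  projChart'_over n A

theorem mem_range_projChart_iff (y : CohB1.ProjSpace n A) :
    y ∈ Set.range (projChart n A) ↔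
      (X 0 : MvPolynomial (Fin (n + 1)) A) ∉ y.asHomogeneousIdeal.toIdeal := by
  have h : (projChart' n A).opensRange = Proj.basicOpen (CohB1.polyGrading n A) (X 0) := by
    delta projChart'
    rw [Scheme.Hom.opensRange_comp_of_isIso, Scheme.Hom.opensRange_comp_of_isIso, Proj.opensRange_awayι]
  change y ∈ (projChart' n A).opensRange ↔ _
  rw [h]
  exact Iff.rfl

end Groth.Agent.WDivLib
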