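import Mathlib.AlgebraicGeometry.OrderOfVanishing
import Mathlib.RingTheory.Length

/-!
# Order of vanishing: open immersions, ring isomorphisms, affine schemes
-/

set_option autoImplicit false
universe u v

open AlgebraicGeometry CategoryTheory Order TopologicalSpace

namespace Groth.Agent.WDivLib

section Ring

variable {R S : Type u} [CommRing R] [CommRing S]

theorem ringOrd_ringEquiv (e : R ≃+* S) (x : R) : Ring.ord S (e x) = Ring.ord R x := by
  letI : Algebra R S := e.toRingHom.toAlgebra
  let e' : R ≃ₐ[R] S := AlgEquiv.ofRingEquiv (f := e) fun _ => rfl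
  have h : (Ideal.span {x}).map (e' : R →+* S) = Ideal.span {e x} := by
    rw [Ideal.map_span, Set.image_singleton]; rfl
  rw [Ring.ord, Ring.ord, ← Module.length_eq_of_surjective (S := R) (R := S)
    (M := S ⧸ Ideal.span {e x}) e.surjective]
  exact ((Ideal.quotientEquivAlg _ _ e' h.symm).toLinearEquiv.length_eq).symm

variable [IsDomain R] [IsNoetherianRing R] [Ring.KrullDimLE 1 R]
  [IsDomain S] [IsNoetherianRing S] [Ring.KrullDimLE 1 S]
  {K L : Type v} [Field K] [Field L] [Algebra R K] [IsFractionRing R K] [Algebra S L]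
  [IsFractionRing S L]

theorem ordFrac_ringEquiv (e : R ≃+* S) (ι : K →+* L)
    (hc : ∀ a, ι (algebraMap R K a) = algebraMap S L (e a)) (x : K) :
    Ring.ordFrac S (ι x) = Ring.ordFrac R x := by
  have key : ∀ a : R, Ring.ordFrac S (ι (algebraMap R K a)) = Ring.ordFrac R (algebraMap R K a) := by
    intro a
    by_cases ha : a = 0
    · simp [ha]
    have hea : e a ≠ 0 := (map_ne_zero_iff e e.injective).2 ha
    rw [hc, Ring.ordFrac_eq_ord S hea, Ring.ordFrac_eq_ord R ha,
      Ring.ordMonoidWithZeroHom_eq_ord (mem_nonZeroDivisors_iff_ne_zero.2 hea),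
      Ring.ordMonoidWithZeroHom_eq_ord (mem_nonZeroDivisors_iff_ne_zero.2 ha), ringOrd_ringEquiv]
  obtain ⟨a, b, -, rfl⟩ := IsFractionRing.div_surjective R x
  rw [map_div₀, map_div₀, map_div₀, key, key]

end Ring

section Ord

variable {X : Scheme.{u}} [IsIntegral X] [IsLocallyNoetherian X]

theorem ord_one (x : X) : Scheme.ord (1 : X.functionField) x = 0 := by
  have := Scheme.ord_mul (x := x) (f := (1 : X.functionField)) (g := 1) one_ne_zero one_ne_zero
  rw [mul_one] at this
  omega

theorem ord_inv {f : X.functionField} (hf : f ≠ 0) (x : X) :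
    Scheme.ord f⁻¹ x = - Scheme.ord f x := by
  have := Scheme.ord_mul (x := x) hf (inv_ne_zero hf)
  rw [mul_inv_cancel₀ hf, ord_one] at this
  omega

theorem ord_div {f g : X.functionField} (hf : f ≠ 0) (hg : g ≠ 0) (x : X) :
    Scheme.ord (f / g) x = Scheme.ord f x - Scheme.ord g x := by
  rw [div_eq_mul_inv, Scheme.ord_mul hf (inv_ne_zero hg), ord_inv hg, sub_eq_add_neg]

theorem ord_pow {f : X.functionField} (hf : f ≠ 0) (x : X) (n : ℕ) :
    Scheme.ord (f ^ n) x = n * Scheme.ord f x := by
  induction n with
  | zero => simp [ord_one]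
  | succ n ih => rw [pow_succ, Scheme.ord_mul (pow_ne_zero n hf) hf, ih]; push_cast; ring

theorem ord_zpow {f : X.functionField} (hf : f ≠ 0) (x : X) (n : ℤ) :
    Scheme.ord (f ^ n) x = n * Scheme.ord f x := by
  obtain ⟨m, rfl | rfl⟩ := Int.eq_nat_or_neg n
  · rw [zpow_natCast, ord_pow hf]
  · rw [zpow_neg, zpow_natCast, ord_inv (pow_ne_zero m hf), ord_pow hf, neg_mul]

theorem ord_prod {ι : Type*} (s : Finset ι) (f : ι → X.functionField) (hf : ∀ i ∈ s, f i ≠ 0)
    (x : X) : Scheme.ord (∏ i ∈ s, f i) x = ∑ i ∈ s, Scheme.ord (f i) x := by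
  classical
  induction s using Finset.induction_on with
  | empty => simp [ord_one]
  | insert a s has ih =>
    rw [Finset.prod_insert has, Finset.sum_insert has,
      Scheme.ord_mul (hf a (Finset.mem_insert_self a s))
        (Finset.prod_ne_zero_iff.2 fun i hi => hf i (Finset.mem_insert_of_mem hi)),
      ih fun i hi => hf i (Finset.mem_insert_of_mem hi)]

theorem ord_algebraMap_of_isUnit {x : X} {a : X.presheaf.stalk x} (ha : IsUnit a) :
    Scheme.ord (algebraMap _ X.functionField a) x = 0 := by
  by_cases hx : coheight x = 1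
  · haveI : Ring.KrullDimLE 1 (X.presheaf.stalk x) := krullDimLE_of_coheight_le hx.le
    rw [Scheme.ord_eq_iff hx ((map_ne_zero_iff _ (IsFractionRing.injective _ _)).2 ha.ne_zero)]
    change Ring.ordFrac (X.presheaf.stalk x) _ = _
    rw [Ring.ordFrac_of_isUnit ha]; rfl
  · exact Scheme.ord_eq_zero_of_coheight_neq_one hx _

theorem ord_algebraMap_of_span_eq_maximalIdeal {x : X} (hx : coheight x = 1) {a : X.presheaf.stalk x}
    (ha0 : a ≠ 0) (ha : Ideal.span {a} = IsLocalRing.maximalIdeal (X.presheaf.stalk x)) :
    Scheme.ord (algebraMap _ X.functionField a) x = 1 := by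
  haveI : Ring.KrullDimLE 1 (X.presheaf.stalk x) := krullDimLE_of_coheight_le hx.le
  rw [Scheme.ord_eq_iff hx ((map_ne_zero_iff _ (IsFractionRing.injective _ _)).2 ha0)]
  change Ring.ordFrac (X.presheaf.stalk x) _ = _
  have h1 : Ring.ord (X.presheaf.stalk x) a = 1 := by
    rw [Ring.ord, ha, Module.length_eq_one_iff, isSimpleModule_iff_quot_maximal]
    exact ⟨_, IsLocalRing.maximalIdeal.isMaximal _, ⟨LinearEquiv.refl _ _⟩⟩
  rw [Ring.ordFrac_eq_ord _ ha0, Ring.ordMonoidWithZeroHom_eq_ord (mem_nonZeroDivisors_iff_ne_zero.2 ha0), h1]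
  rfl

theorem coheight_one_notMem_closure {x z : X} (hx : coheight x = 1) (hz : coheight z = 1) (hne : x ≠ z) :
    x ∉ closure ({z} : Set X) := by
  intro h
  have hle : x ≤ z := Scheme.le_iff_specializes.2 (specializes_iff_mem_closure.2 h)
  have hlt : x < z := lt_iff_le_not_ge.2 ⟨hle, fun h' =>
    hne (((Scheme.le_iff_specializes.1 h').antisymm (Scheme.le_iff_specializes.1 hle)).eq)⟩
  have := Order.coheight_add_one_le hlt
  rw [hx, hz] at this
  norm_num at this

end Ord

section OpenImmersion

variable {U X : Scheme.{u}} (f : U ⟶ X) [IsOpenImmersion f] [IsIntegral U] [IsIntegral X]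

/-- The isomorphism of function fields induced by an open immersion. -/
noncomputable def ffMap : X.functionField →+* U.functionField :=
  (X.presheaf.stalkSpecializes (specializes_of_eq (genericPoint_eq_of_isOpenImmersion f)) ≫
    f.stalkMap (genericPoint U)).hom

theorem ffMap_bijective : Function.Bijective (ffMap f) := by
  have e := genericPoint_eq_of_isOpenImmersion f
  have : IsIso (X.presheaf.stalkSpecializes (specializes_of_eq e)) :=
    ⟨X.presheaf.stalkSpecializes (specializes_of_eq e.symm), by
      rw [TopCat.Presheaf.stalkSpecializes_comp, TopCat.Presheaf.stalkSpecializes_refl], by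
      rw [TopCat.Presheaf.stalkSpecializes_comp, TopCat.Presheaf.stalkSpecializes_refl]⟩
  exact ConcreteCategory.bijective_of_isIso
    (X.presheaf.stalkSpecializes (specializes_of_eq e) ≫ f.stalkMap (genericPoint U))

theorem ffMap_algebraMap (u : U) (a : X.presheaf.stalk (f u)) :
    ffMap f (algebraMap _ X.functionField a) = algebraMap _ U.functionField (f.stalkMap u a) := by
  change f.stalkMap (genericPoint U) (X.presheaf.stalkSpecializes _ (X.presheaf.stalkSpecializes _ a)) = _
  rw [TopCat.Presheaf.stalkSpecializes_comp_apply]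
  exact Scheme.Hom.stalkSpecializes_stalkMap_apply f (genericPoint U) u
    ((genericPoint_spec U).specializes trivial) a

variable [IsLocallyNoetherian U] [IsLocallyNoetherian X]

theorem ord_ffMap (g : X.functionField) (u : U) :
    Scheme.ord (ffMap f g) u = Scheme.ord g (f u) := by
  by_cases hu : coheight u = 1
  · have hfu : coheight (f u) = 1 := (coheight_eq_of_isOpenImmersion f).trans hu
    haveI : Ring.KrullDimLE 1 (U.presheaf.stalk u) := krullDimLE_of_coheight_le hu.le
    haveI : Ring.KrullDimLE 1 (X.presheaf.stalk (f u)) := krullDimLE_of_coheight_le hfu.le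
    have h := ordFrac_ringEquiv (asIso (f.stalkMap u)).commRingCatIsoToRingEquiv (ffMap f)
      (fun a => ffMap_algebraMap f u a) g
    rw [Scheme.ord_eq_ordHom_of_coheight_eq_one hu, Scheme.ord_eq_ordHom_of_coheight_eq_one hfu]
    exact congrArg (fun z => Multiplicative.toAdd (WithZero.unzeroD 1 z)) h
  · rw [Scheme.ord_eq_zero_of_coheight_neq_one hu,
      Scheme.ord_eq_zero_of_coheight_neq_one fun h => hu ((coheight_eq_of_isOpenImmersion f).symm.trans h)]

end OpenImmersion

section Affine

variable (A : Type u) [CommRing A] [IsDomain A]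

/-- `a ∈ A` as a rational function on `Spec A`. -/
noncomputable def rat : A →+* (Spec (CommRingCat.of A)).functionField :=
  (StructureSheaf.toStalk A (genericPoint (Spec (CommRingCat.of A)))).hom

/-- `a ∈ A` in the local ring at `x`. -/
noncomputable def loc (x : Spec (CommRingCat.of A)) : A →+* (Spec (CommRingCat.of A)).presheaf.stalk x :=
  (StructureSheaf.toStalk A x).hom

theorem algebraMap_loc (x : Spec (CommRingCat.of A)) (a : A) :
    algebraMap _ (Spec (CommRingCat.of A)).functionField (loc A x a) = rat A a :=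
  congr($(StructureSheaf.toStalk_stalkSpecializes
    ((genericPoint_spec (Spec (CommRingCat.of A))).specializes (y := x) trivial)).hom a)

omit [IsDomain A] in
theorem isUnit_loc_iff (x : Spec (CommRingCat.of A)) (a : A) :
    IsUnit (loc A x a) ↔ a ∉ x.asIdeal :=
  haveI : x.asIdeal.IsPrime := PrimeSpectrum.isPrime x
  letI : Algebra A ((Spec (CommRingCat.of A)).presheaf.stalk x) := StructureSheaf.stalkAlgebra A x
  haveI : IsLocalization.AtPrime ((Spec (CommRingCat.of A)).presheaf.stalk x) x.asIdeal :=
    StructureSheaf.IsLocalization.to_stalk A x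
  IsLocalization.AtPrime.isUnit_to_map_iff _ x.asIdeal a

omit [IsDomain A] in
theorem maximalIdeal_eq_map (x : Spec (CommRingCat.of A)) :
    IsLocalRing.maximalIdeal ((Spec (CommRingCat.of A)).presheaf.stalk x) = x.asIdeal.map (loc A x) :=
  haveI : x.asIdeal.IsPrime := PrimeSpectrum.isPrime x
  letI : Algebra A ((Spec (CommRingCat.of A)).presheaf.stalk x) := StructureSheaf.stalkAlgebra A x
  haveI : IsLocalization.AtPrime ((Spec (CommRingCat.of A)).presheaf.stalk x) x.asIdeal :=
    StructureSheaf.IsLocalization.to_stalk A x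
  (IsLocalization.AtPrime.map_eq_maximalIdeal x.asIdeal _).symm

theorem rat_injective : Function.Injective (rat A) :=
  let η := genericPoint (Spec (CommRingCat.of A))
  haveI : η.asIdeal.IsPrime := PrimeSpectrum.isPrime η
  letI : Algebra A ((Spec (CommRingCat.of A)).presheaf.stalk η) := StructureSheaf.stalkAlgebra A η
  haveI : IsLocalization.AtPrime ((Spec (CommRingCat.of A)).presheaf.stalk η) η.asIdeal :=
    StructureSheaf.IsLocalization.to_stalk A η
  IsLocalization.injective (Spec (CommRingCat.of A)).functionField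
    (Ideal.primeCompl_le_nonZeroDivisors η.asIdeal)

end Affine

end Groth.Agent.WDivLib
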