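import Mathlib.RingTheory.Polynomial.Quotient
import Mathlib.RingTheory.Polynomial.UniqueFactorization
import Mathlib.RingTheory.MvPolynomial.Localization
import Mathlib.Algebra.MvPolynomial.Nilpotent
import Mathlib.RingTheory.Ideal.KrullsHeightTheorem
import Mathlib.RingTheory.Flat.Basic
import Mathlib.RingTheory.Ideal.GoingDown

/-!
# Height one primes of polynomial rings: vertical and horizontal
-/

set_option autoImplicit false
universe u

namespace Groth.Agent.WDivLib

open MvPolynomial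

variable {R : Type u} [CommRing R] [IsDomain R] [IsNoetherianRing R] {σ : Type u} [Finite σ]

theorem isPrime_map_C (p : Ideal R) [p.IsPrime] :
    (p.map (C : R →+* MvPolynomial σ R)).IsPrime := by
  haveI : IsDomain (MvPolynomial σ R ⧸ p.map (C : R →+* MvPolynomial σ R)) :=
    (quotientEquivQuotientMvPolynomial (σ := σ) p).symm.toRingEquiv.isDomain (MvPolynomial σ (R ⧸ p))
  exact (Ideal.Quotient.isDomain_iff_prime _).1 ‹_›

theorem comap_map_C (p : Ideal R) :
    (p.map (C : R →+* MvPolynomial σ R)).comap C = p := by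
  refine le_antisymm (fun a ha => ?_) Ideal.le_comap_map
  simpa using (MvPolynomial.mem_map_C_iff.1 ha) 0

theorem height_map_C (p : Ideal R) [p.IsPrime] :
    (p.map (C : R →+* MvPolynomial σ R)).height = p.height := by
  haveI := isPrime_map_C (σ := σ) p
  haveI : (p.map (C : R →+* MvPolynomial σ R)).LiesOver p := ⟨(comap_map_C p).symm⟩
  rw [Ideal.height_eq_height_add_of_liesOver_of_hasGoingDown p
    (p.map (C : R →+* MvPolynomial σ R))]
  rw [show (p.map (C : R →+* MvPolynomial σ R)).map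
    (Ideal.Quotient.mk (p.map (algebraMap R (MvPolynomial σ R)))) = ⊥ from Ideal.map_quotient_self _]
  haveI : Nontrivial (MvPolynomial σ R ⧸ p.map (algebraMap R (MvPolynomial σ R))) :=
    Ideal.Quotient.nontrivial_iff.2 (isPrime_map_C (σ := σ) p).ne_top
  rw [Ideal.height_bot, add_zero]

/-- A fraction of polynomials is a fraction of constants unless some height one prime not meeting
the constants distinguishes numerator and denominator. -/
theorem exists_reduced (a b : MvPolynomial σ R) (ha : a ≠ 0) (hb : b ≠ 0) :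
    ∃ a' b', a' ≠ 0 ∧ b' ≠ 0 ∧ a * b' = b * a' ∧
      ((∃ a0 b0 : R, a' = C a0 ∧ b' = C b0) ∨
        ∃ P : Ideal (MvPolynomial σ R), P.IsPrime ∧ P.height = 1 ∧ P.comap C = ⊥ ∧
          ((a' ∈ P ∧ b' ∉ P) ∨ (b' ∈ P ∧ a' ∉ P))) := by
  classical
  let K := FractionRing R
  let M := (nonZeroDivisors R).map (C : R →+* MvPolynomial σ R)
  letI : Algebra (MvPolynomial σ R) (MvPolynomial σ K) := algebraMvPolynomial
  haveI : IsLocalization M (MvPolynomial σ K) := MvPolynomial.isLocalization (nonZeroDivisors R) K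
  let ι : MvPolynomial σ R →+* MvPolynomial σ K := algebraMap _ _
  have hM : M ≤ nonZeroDivisors (MvPolynomial σ R) := by
    rintro _ ⟨c, hc, rfl⟩
    exact mem_nonZeroDivisors_iff_ne_zero.2 ((map_ne_zero_iff _ (C_injective σ R)).2 (nonZeroDivisors.ne_zero hc))
  have hι : Function.Injective ι := IsLocalization.injective (MvPolynomial σ K) hM
  have hι' : ∀ f : MvPolynomial σ R, ι f = MvPolynomial.map (algebraMap R K) f := fun f => rfl
  obtain ⟨a1, b1, c1, hrel, ha1, hb1⟩ :=
    UniqueFactorizationMonoid.exists_reduced_factors' (ι a) (ι b) ((map_ne_zero_iff _ hι).2 hb)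
  obtain ⟨⟨a', s, hs⟩, hsa⟩ := IsLocalization.surj M a1
  obtain ⟨⟨b', t, ht⟩, htb⟩ := IsLocalization.surj M b1
  have hsu : IsUnit (ι s) := IsLocalization.map_units _ (⟨s, hs⟩ : M)
  have htu : IsUnit (ι t) := IsLocalization.map_units _ (⟨t, ht⟩ : M)
  have hA : Associated a1 (ι (a' * t)) := ⟨hsu.unit * htu.unit, by
    rw [map_mul, ← hsa, Units.val_mul, IsUnit.unit_spec, IsUnit.unit_spec]; ring⟩
  have hB : Associated b1 (ι (b' * s)) := ⟨htu.unit * hsu.unit, by
    rw [map_mul, ← htb, Units.val_mul, IsUnit.unit_spec, IsUnit.unit_spec]; ring⟩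
  have ha10 : a1 ≠ 0 := fun h => (map_ne_zero_iff _ hι).2 ha (by rw [← ha1, h, mul_zero])
  have hb10 : b1 ≠ 0 := fun h => (map_ne_zero_iff _ hι).2 hb (by rw [← hb1, h, mul_zero])
  have hA0 : ι (a' * t) ≠ 0 := fun h => ha10 (hA.eq_zero_iff.2 h)
  have hB0 : ι (b' * s) ≠ 0 := fun h => hb10 (hB.eq_zero_iff.2 h)
  refine ⟨a' * t, b' * s, fun h => hA0 (by rw [h, map_zero]), fun h => hB0 (by rw [h, map_zero]), hι ?_, ?_⟩
  · simp only [map_mul]
    rw [← hsa, ← htb, ← ha1, ← hb1]
    ring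
  have hprime : ∀ q : MvPolynomial σ K, Irreducible q →
      ((Ideal.span {q}).comap ι).IsPrime ∧ ((Ideal.span {q}).comap ι).height = 1 ∧
        ((Ideal.span {q}).comap ι).comap C = ⊥ := by
    intro q hq
    haveI hqp : (Ideal.span {q}).IsPrime :=
      (Ideal.span_singleton_prime hq.ne_zero).2 hq.prime
    refine ⟨Ideal.comap_isPrime _ _, ?_, ?_⟩
    · change ((Ideal.span {q}).under (MvPolynomial σ R)).height = 1
      rw [IsLocalization.height_under M]
      refine le_antisymm (Ideal.height_le_one_of_isPrincipal_of_mem_minimalPrimes (Ideal.span {q}) _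
        (by rw [Ideal.minimalPrimes_eq_subsingleton_self]; rfl)) ?_
      rw [ENat.one_le_iff_ne_zero, ne_eq, Ideal.height_eq_zero_iff, IsDomain.minimalPrimes_eq_singleton_bot]
      exact fun h => hq.ne_zero (Ideal.span_singleton_eq_bot.1 h)
    · rw [eq_bot_iff]
      intro c hc
      by_contra hc0
      exact hqp.ne_top (Ideal.eq_top_of_isUnit_mem _ hc (IsLocalization.map_units _
        (⟨C c, ⟨c, mem_nonZeroDivisors_iff_ne_zero.2 hc0, rfl⟩⟩ : M)))
  have hconst : ∀ f : MvPolynomial σ R, IsUnit (ι f) → f = C (f.coeff 0) := by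
    intro f hf
    obtain ⟨c, -, hc⟩ := MvPolynomial.isUnit_iff_eq_C_of_isReduced.1 hf
    refine hι ?_
    rw [hι', hι', MvPolynomial.map_C, ← MvPolynomial.coeff_map, ← hι', hc, MvPolynomial.coeff_C, if_pos rfl]
  by_cases hAu : IsUnit (ι (a' * t))
  · by_cases hBu : IsUnit (ι (b' * s))
    · exact Or.inl ⟨_, _, hconst _ hAu, hconst _ hBu⟩
    · obtain ⟨q, hq, hqd⟩ := WfDvdMonoid.exists_irreducible_factor hBu hB0
      obtain ⟨h1, h2, h3⟩ := hprime q hq
      refine Or.inr ⟨_, h1, h2, h3, Or.inr ⟨Ideal.mem_span_singleton.2 hqd, fun h => hq.not_isUnit ?_⟩⟩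
      exact isUnit_of_dvd_unit (Ideal.mem_span_singleton.1 h) hAu
  · obtain ⟨q, hq, hqd⟩ := WfDvdMonoid.exists_irreducible_factor hAu hA0
    obtain ⟨h1, h2, h3⟩ := hprime q hq
    refine Or.inr ⟨_, h1, h2, h3, Or.inl ⟨Ideal.mem_span_singleton.2 hqd, fun h => hq.not_isUnit ?_⟩⟩
    exact hrel (hA.dvd_iff_dvd_right.2 hqd) (hB.dvd_iff_dvd_right.2 (Ideal.mem_span_singleton.1 h))

end Groth.Agent.WDivLib
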