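import Groth.Agent.WDivLib.Basic
import Mathlib.AlgebraicGeometry.AffineSpace

/-!
# Pullback of rational functions along dominant morphisms
-/

set_option autoImplicit false
universe u

open AlgebraicGeometry CategoryTheory Order TopologicalSpace

namespace Groth.Agent.WDivLib

section

variable {U V W : Scheme.{u}} [IsIntegral U] [IsIntegral V] [IsIntegral W]

/-- Pullback of rational functions along a morphism preserving generic points. -/
noncomputable def pbMap (f : U ⟶ V) (h : f (genericPoint U) = genericPoint V) :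
    V.functionField →+* U.functionField :=
  (V.presheaf.stalkSpecializes (specializes_of_eq h) ≫ f.stalkMap (genericPoint U)).hom

theorem pbMap_algebraMap (f : U ⟶ V) (h : f (genericPoint U) = genericPoint V) (u : U)
    (a : V.presheaf.stalk (f u)) :
    pbMap f h (algebraMap _ V.functionField a) = algebraMap _ U.functionField (f.stalkMap u a) := by
  change f.stalkMap (genericPoint U) (V.presheaf.stalkSpecializes _ (V.presheaf.stalkSpecializes _ a)) = _
  rw [TopCat.Presheaf.stalkSpecializes_comp_apply]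
  exact Scheme.Hom.stalkSpecializes_stalkMap_apply f (genericPoint U) u
    ((genericPoint_spec U).specializes trivial) a

theorem pbMap_eq_ffMap (f : U ⟶ V) [IsOpenImmersion f] (h : f (genericPoint U) = genericPoint V) :
    pbMap f h = ffMap f := rfl

theorem pbMap_congr {f g : U ⟶ V} (e : f = g) (hf : f (genericPoint U) = genericPoint V)
    (hg : g (genericPoint U) = genericPoint V) : pbMap f hf = pbMap g hg := by subst e; rfl

theorem pbMap_comp (f : U ⟶ V) (g : V ⟶ W) (hf : f (genericPoint U) = genericPoint V)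
    (hg : g (genericPoint V) = genericPoint W) (hfg : (f ≫ g) (genericPoint U) = genericPoint W) :
    pbMap (f ≫ g) hfg = (pbMap f hf).comp (pbMap g hg) := by
  refine RingHom.ext fun a => ?_
  change (f ≫ g).stalkMap (genericPoint U) (W.presheaf.stalkSpecializes _ a) =
    f.stalkMap (genericPoint U) (V.presheaf.stalkSpecializes (specializes_of_eq hf)
      (g.stalkMap (genericPoint V) (W.presheaf.stalkSpecializes (specializes_of_eq hg) a)))
  rw [← Scheme.Hom.stalkSpecializes_stalkMap_apply g _ _ (specializes_of_eq hf),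
    TopCat.Presheaf.stalkSpecializes_comp_apply, Scheme.Hom.stalkMap_comp]
  rfl

theorem pbMap_injective (f : U ⟶ V) (h : f (genericPoint U) = genericPoint V) :
    Function.Injective (pbMap f h) := (pbMap f h).injective

end

section Affine

variable {A B : Type u} [CommRing A] [IsDomain A] [CommRing B] [IsDomain B] (φ : A →+* B)

theorem specMap_genericPoint (hφ : Function.Injective φ) :
    Spec.map (CommRingCat.ofHom φ) (genericPoint (Spec (CommRingCat.of B))) =
      genericPoint (Spec (CommRingCat.of A)) := by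
  haveI : IsDomain ↑(CommRingCat.of A) := ‹IsDomain A›
  haveI : IsDomain ↑(CommRingCat.of B) := ‹IsDomain B›
  rw [genericPoint_eq_bot_of_affine, genericPoint_eq_bot_of_affine]
  refine PrimeSpectrum.ext ?_
  change Ideal.comap φ (⊥ : Ideal B) = ⊥
  exact Ideal.comap_bot_of_injective _ hφ

theorem pbMap_rat (h : Spec.map (CommRingCat.ofHom φ) (genericPoint (Spec (CommRingCat.of B))) =
      genericPoint (Spec (CommRingCat.of A))) (a : A) :
    pbMap (Spec.map (CommRingCat.ofHom φ)) h (rat A a) = rat B (φ a) := by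
  have h1 := congr($(StructureSheaf.toStalk_stalkSpecializes (R := A) (specializes_of_eq h)).hom a)
  change (Spec.map (CommRingCat.ofHom φ)).stalkMap _
    ((Spec (CommRingCat.of A)).presheaf.stalkSpecializes (specializes_of_eq h)
      (StructureSheaf.toStalk A (genericPoint (Spec (CommRingCat.of A))) a)) = _
  erw [h1]
  exact stalkMap_toStalk_apply (CommRingCat.ofHom φ) _ a

variable [IsNoetherianRing A]

theorem rat_ne_zero {a : A} (ha : a ≠ 0) : rat A a ≠ 0 :=
  (map_ne_zero_iff _ (rat_injective A)).2 ha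

theorem exists_rat_div (g : (Spec (CommRingCat.of A)).functionField) :
    ∃ a b : A, b ≠ 0 ∧ g = rat A a / rat A b := by
  let η := genericPoint (Spec (CommRingCat.of A))
  haveI : η.asIdeal.IsPrime := PrimeSpectrum.isPrime η
  letI : Algebra A ((Spec (CommRingCat.of A)).presheaf.stalk η) := StructureSheaf.stalkAlgebra A η
  haveI : IsLocalization.AtPrime ((Spec (CommRingCat.of A)).presheaf.stalk η) η.asIdeal :=
    StructureSheaf.IsLocalization.to_stalk A η
  obtain ⟨⟨a, b, hb⟩, hab⟩ := IsLocalization.surj η.asIdeal.primeCompl g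
  have hb0 : b ≠ 0 := fun h => hb (h ▸ η.asIdeal.zero_mem)
  refine ⟨a, b, hb0, (eq_div_iff (rat_ne_zero hb0)).2 ?_⟩
  exact hab

theorem isUnit_loc_of_notMem {x : Spec (CommRingCat.of A)} {a : A} (ha : a ∉ x.asIdeal) :
    IsUnit (loc A x a) := (isUnit_loc_iff A x a).2 ha

theorem ord_rat_eq_zero {x : Spec (CommRingCat.of A)} {a : A} (ha : a ∉ x.asIdeal) :
    Scheme.ord (rat A a) x = 0 := by
  rw [← algebraMap_loc A x a]
  exact ord_algebraMap_of_isUnit (isUnit_loc_of_notMem ha)

theorem ord_rat_pos {x : Spec (CommRingCat.of A)} (hx : coheight x = 1) {a : A} (ha : a ≠ 0)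
    (hax : a ∈ x.asIdeal) : 0 < Scheme.ord (rat A a) x := by
  haveI : Ring.KrullDimLE 1 ((Spec (CommRingCat.of A)).presheaf.stalk x) :=
    krullDimLE_of_coheight_le hx.le
  rw [← algebraMap_loc A x a]
  set r := loc A x a with hr
  have hr0 : r ≠ 0 := fun h => rat_ne_zero ha (by rw [← algebraMap_loc A x a, ← hr, h, map_zero])
  have hnu : ¬ IsUnit r := fun h => (isUnit_loc_iff A x a).1 h hax
  have hnt : Nontrivial ((Spec (CommRingCat.of A)).presheaf.stalk x ⧸ Ideal.span {r}) :=
    Ideal.Quotient.nontrivial_iff.2 (fun h => hnu (Ideal.span_singleton_eq_top.1 h))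
  obtain ⟨n, hn⟩ := ENat.ne_top_iff_exists.1 (Ring.ord_ne_top (mem_nonZeroDivisors_iff_ne_zero.2 hr0))
  have hpos : 0 < n := by
    have : 0 < Ring.ord _ r := Module.length_pos_iff.2 hnt
    rw [← hn] at this
    exact_mod_cast this
  have h2 : Scheme.ord (algebraMap _ (Spec (CommRingCat.of A)).functionField r) x = (n : ℤ) := by
    rw [Scheme.ord_eq_iff hx ((map_ne_zero_iff _ (IsFractionRing.injective _ _)).2 hr0)]
    change Ring.ordFrac _ _ = _
    rw [Ring.ordFrac_eq_ord _ hr0,
      Ring.ordMonoidWithZeroHom_eq_coe _ (mem_nonZeroDivisors_iff_ne_zero.2 hr0) hn.symm]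
  rw [h2]; exact_mod_cast hpos

/-- If `π` generates the maximal ideal at `x`, then `s * a = t * π ^ n` with `s, t ∉ x` computes
the order. -/
theorem ord_rat_eq_of_eq {x : Spec (CommRingCat.of A)} (hx : coheight x = 1) {π a s t : A}
    (hπ0 : π ≠ 0) (ha : a ≠ 0) (hs : s ∉ x.asIdeal) (ht : t ∉ x.asIdeal)
    (hπ : ∀ r ∈ x.asIdeal, ∃ s' ∉ x.asIdeal, π ∣ s' * r) (hπx : π ∈ x.asIdeal) {n : ℕ}
    (h : s * a = t * π ^ n) : Scheme.ord (rat A a) x = n := by
  have hs0 : s ≠ 0 := fun h => hs (h ▸ x.asIdeal.zero_mem)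
  have ht0 : t ≠ 0 := fun h => ht (h ▸ x.asIdeal.zero_mem)
  have h1 := congrArg (fun z => Scheme.ord (rat A z) x) h
  simp only [map_mul, map_pow] at h1
  rw [Scheme.ord_mul (rat_ne_zero hs0) (rat_ne_zero ha),
    Scheme.ord_mul (rat_ne_zero ht0) (pow_ne_zero _ (rat_ne_zero hπ0)), ord_pow (rat_ne_zero hπ0),
    ord_rat_eq_zero hs, ord_rat_eq_zero ht] at h1
  have hπ1 : Scheme.ord (rat A π) x = 1 := by
    rw [← algebraMap_loc A x π]
    refine ord_algebraMap_of_span_eq_maximalIdeal hx
      (fun h => rat_ne_zero hπ0 (by rw [← algebraMap_loc A x π, h, map_zero])) ?_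
    rw [maximalIdeal_eq_map]
    refine le_antisymm ((Ideal.span_singleton_le_iff_mem _).2 (Ideal.mem_map_of_mem _ hπx))
      (Ideal.map_le_iff_le_comap.2 fun r hr => ?_)
    obtain ⟨s', hs', hdvd⟩ := hπ r hr
    have h3 : loc A x π ∣ loc A x s' * loc A x r := map_mul (loc A x) s' r ▸ map_dvd (loc A x) hdvd
    exact Ideal.mem_span_singleton.2 (((isUnit_loc_of_notMem hs').dvd_mul_left).1 h3)
  rw [hπ1] at h1
  simpa using h1

theorem exists_uniformizer {x : Spec (CommRingCat.of A)}
    [IsDiscreteValuationRing ((Spec (CommRingCat.of A)).presheaf.stalk x)] :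
    ∃ π ∈ x.asIdeal, π ≠ 0 ∧ (∀ r ∈ x.asIdeal, ∃ s ∉ x.asIdeal, π ∣ s * r) ∧
      ∀ a : A, a ≠ 0 → ∃ (n : ℕ) (s t : A), s ∉ x.asIdeal ∧ t ∉ x.asIdeal ∧ s * a = t * π ^ n := by
  haveI : x.asIdeal.IsPrime := PrimeSpectrum.isPrime x
  letI : Algebra A ((Spec (CommRingCat.of A)).presheaf.stalk x) := StructureSheaf.stalkAlgebra A x
  haveI : IsLocalization.AtPrime ((Spec (CommRingCat.of A)).presheaf.stalk x) x.asIdeal :=
    StructureSheaf.IsLocalization.to_stalk A x
  obtain ⟨ϖ, hϖ⟩ := IsDiscreteValuationRing.exists_irreducible ((Spec (CommRingCat.of A)).presheaf.stalk x)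
  obtain ⟨⟨π, s, hs⟩, hπ⟩ := IsLocalization.surj x.asIdeal.primeCompl ϖ
  have hsu : IsUnit (algebraMap A ((Spec (CommRingCat.of A)).presheaf.stalk x) s) :=
    IsLocalization.map_units _ (⟨s, hs⟩ : x.asIdeal.primeCompl)
  have hass : Associated ϖ (algebraMap A _ π) := ⟨hsu.unit, hπ⟩
  have hirr : Irreducible (algebraMap A ((Spec (CommRingCat.of A)).presheaf.stalk x) π) :=
    hass.irreducible hϖ
  have hinj : Function.Injective (algebraMap A ((Spec (CommRingCat.of A)).presheaf.stalk x)) :=
    IsLocalization.injective _ (Ideal.primeCompl_le_nonZeroDivisors x.asIdeal)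
  refine ⟨π, ?_, fun h => hirr.ne_zero (by rw [h, map_zero]), fun r hr => ?_, fun a ha => ?_⟩
  · by_contra hπx
    exact hirr.not_isUnit (IsLocalization.map_units _ (⟨π, hπx⟩ : x.asIdeal.primeCompl))
  · have hmem : algebraMap A ((Spec (CommRingCat.of A)).presheaf.stalk x) r ∈
        IsLocalRing.maximalIdeal ((Spec (CommRingCat.of A)).presheaf.stalk x) :=
      (IsLocalization.AtPrime.to_map_mem_maximal_iff _ x.asIdeal r).2 hr
    rw [(IsDiscreteValuationRing.irreducible_iff_uniformizer _).1 hirr, Ideal.mem_span_singleton'] at hmem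
    obtain ⟨c, hc⟩ := hmem
    obtain ⟨⟨c0, s', hs'⟩, hc'⟩ := IsLocalization.surj x.asIdeal.primeCompl c
    refine ⟨s', hs', c0, hinj ?_⟩
    rw [map_mul, map_mul, ← hc, ← hc']
    ring
  · obtain ⟨n, v, hv⟩ := IsDiscreteValuationRing.eq_unit_mul_pow_irreducible
      ((map_ne_zero_iff _ hinj).2 ha) hirr
    obtain ⟨⟨t, s', hs'⟩, ht⟩ := IsLocalization.surj x.asIdeal.primeCompl
      (v : (Spec (CommRingCat.of A)).presheaf.stalk x)
    refine ⟨n, s', t, hs', fun h => ?_, hinj ?_⟩
    · have hu : IsUnit (algebraMap A ((Spec (CommRingCat.of A)).presheaf.stalk x) t) := by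
        rw [← ht]
        exact v.isUnit.mul (IsLocalization.map_units _ (⟨s', hs'⟩ : x.asIdeal.primeCompl))
      exact (IsLocalization.AtPrime.isUnit_to_map_iff _ x.asIdeal t).1 hu h
    · rw [map_mul, map_mul, map_pow, hv, ← ht]
      ring

end Affine

end Groth.Agent.WDivLib
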