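import Groth.Agent.WDivLib.Pullback
import Groth.Agent.WDivLib.PolyPrime

/-!
# Affine space over an integral scheme: charts, vertical and horizontal prime divisors
-/

set_option autoImplicit false
universe u

open AlgebraicGeometry CategoryTheory Order TopologicalSpace

namespace Groth.Agent.WDivLib

section Algebra

open MvPolynomial

variable {R : Type u} [CommRing R] [IsDomain R] [IsNoetherianRing R] {σ : Type u} [Finite σ]

theorem eq_map_C_of_height_one (P : Ideal (MvPolynomial σ R)) [P.IsPrime] (hP : P.height = 1)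
    (h : P.comap (C : R →+* MvPolynomial σ R) ≠ ⊥) :
    P = (P.comap (C : R →+* MvPolynomial σ R)).map C ∧
      (P.comap (C : R →+* MvPolynomial σ R)).height = 1 := by
  haveI : (P.comap (C : R →+* MvPolynomial σ R)).IsPrime := Ideal.comap_isPrime _ _
  haveI := isPrime_map_C (σ := σ) (P.comap (C : R →+* MvPolynomial σ R))
  have hle : (P.comap (C : R →+* MvPolynomial σ R)).map C ≤ P := Ideal.map_comap_le
  have he : P = (P.comap (C : R →+* MvPolynomial σ R)).map C := by
    by_contra hne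
    have h1 := Ideal.height_strict_mono_of_isPrime (lt_of_le_of_ne hle (Ne.symm hne))
    rw [hP, Order.lt_one_iff, Ideal.height_eq_zero_iff, IsDomain.minimalPrimes_eq_singleton_bot,
      Set.mem_singleton_iff, Ideal.map_eq_bot_iff_of_injective (C_injective σ R)] at h1
    exact h h1
  refine ⟨he, ?_⟩
  rw [← height_map_C (σ := σ), ← he]
  exact hP

theorem exists_horizontal_generator (P : Ideal (MvPolynomial σ R)) [P.IsPrime] (hP : P.height = 1)
    (h : P.comap (C : R →+* MvPolynomial σ R) = ⊥) :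
    ∃ π ∈ P, π ≠ 0 ∧ (∀ r ∈ P, ∃ c : R, c ≠ 0 ∧ π ∣ C c * r) ∧
      ∀ (P' : Ideal (MvPolynomial σ R)) [P'.IsPrime], P'.height = 1 →
        P'.comap (C : R →+* MvPolynomial σ R) = ⊥ → π ∈ P' → P' = P := by
  classical
  let K := FractionRing R
  let M := (nonZeroDivisors R).map (C : R →+* MvPolynomial σ R)
  letI : Algebra (MvPolynomial σ R) (MvPolynomial σ K) := algebraMvPolynomial
  haveI : IsLocalization M (MvPolynomial σ K) := MvPolynomial.isLocalization (nonZeroDivisors R) K
  have hdisj : ∀ (Q : Ideal (MvPolynomial σ R)), Q.comap (C : R →+* MvPolynomial σ R) = ⊥ →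
      Disjoint (M : Set (MvPolynomial σ R)) Q := by
    intro Q hQ
    rw [Set.disjoint_left]
    rintro _ ⟨c, hc, rfl⟩ hcQ
    exact nonZeroDivisors.ne_zero hc (by simpa [hQ] using (show c ∈ Q.comap C from hcQ))
  have hPK : (P.map (algebraMap (MvPolynomial σ R) (MvPolynomial σ K))).IsPrime :=
    IsLocalization.isPrime_of_isPrime_disjoint M _ P ‹_› (hdisj P h)
  have hP0 : P ≠ ⊥ := fun h0 => by rw [h0, Ideal.height_bot] at hP; exact zero_ne_one hP
  have hinj : Function.Injective (algebraMap (MvPolynomial σ R) (MvPolynomial σ K)) :=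
    IsLocalization.injective (MvPolynomial σ K) (M := M) (fun x hx => by
      obtain ⟨c, hc, rfl⟩ := hx
      exact mem_nonZeroDivisors_iff_ne_zero.2 ((map_ne_zero_iff _ (C_injective σ R)).2 (nonZeroDivisors.ne_zero hc)))
  obtain ⟨q, hq, hqprime⟩ := hPK.exists_mem_prime_of_ne_bot
    (fun h0 => hP0 ((Ideal.map_eq_bot_iff_of_injective hinj).1 h0))
  obtain ⟨⟨π, s, hs⟩, hπ⟩ := IsLocalization.surj M q
  have hsu : IsUnit (algebraMap (MvPolynomial σ R) (MvPolynomial σ K) s) :=
    IsLocalization.map_units _ (⟨s, hs⟩ : M)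
  have hcomap : ∀ (Q : Ideal (MvPolynomial σ R)) [Q.IsPrime], Q.comap (C : R →+* MvPolynomial σ R) = ⊥ →
      (Q.map (algebraMap (MvPolynomial σ R) (MvPolynomial σ K))).under (MvPolynomial σ R) = Q :=
    fun Q hQ h' => IsLocalization.under_map_of_isPrime_disjoint M _ hQ (hdisj Q h')
  have hπP : π ∈ P := by
    rw [← hcomap P h, Ideal.mem_comap]
    have hπ' : q * algebraMap (MvPolynomial σ R) (MvPolynomial σ K) s = algebraMap _ _ π := hπ
    rw [← hπ']
    exact Ideal.mul_mem_right _ _ hq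
  have hkey : ∀ (P' : Ideal (MvPolynomial σ R)) [P'.IsPrime], P'.height = 1 →
      P'.comap (C : R →+* MvPolynomial σ R) = ⊥ → π ∈ P' →
      P'.map (algebraMap (MvPolynomial σ R) (MvPolynomial σ K)) = Ideal.span {q} := by
    intro P' _ hP' h' hπ'
    haveI : (P'.map (algebraMap (MvPolynomial σ R) (MvPolynomial σ K))).IsPrime :=
      IsLocalization.isPrime_of_isPrime_disjoint M _ P' ‹_› (hdisj P' h')
    have hqP' : q ∈ P'.map (algebraMap (MvPolynomial σ R) (MvPolynomial σ K)) := by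
      have := Ideal.mem_map_of_mem (algebraMap (MvPolynomial σ R) (MvPolynomial σ K)) hπ'
      rw [← hπ] at this
      exact (Ideal.mul_unit_mem_iff_mem _ hsu).1 this
    haveI : (Ideal.span {q}).IsPrime := (Ideal.span_singleton_prime hqprime.ne_zero).2 hqprime
    refine le_antisymm ?_ ((Ideal.span_singleton_le_iff_mem _).2 hqP')
    by_contra hne
    have h1 := Ideal.height_strict_mono_of_isPrime
      (lt_of_le_not_ge ((Ideal.span_singleton_le_iff_mem _).2 hqP') hne)
    rw [← IsLocalization.height_under M (P'.map (algebraMap (MvPolynomial σ R) (MvPolynomial σ K))),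
      hcomap P' h', hP', Order.lt_one_iff, Ideal.height_eq_zero_iff,
      IsDomain.minimalPrimes_eq_singleton_bot, Set.mem_singleton_iff, Ideal.span_singleton_eq_bot] at h1
    exact hqprime.ne_zero h1
  refine ⟨π, hπP, fun h0 => hqprime.ne_zero ?_, fun r hr => ?_, fun P' hP'p hP' h' hπ' => ?_⟩
  · rw [h0, map_zero] at hπ
    exact (IsUnit.mul_left_eq_zero hsu).1 hπ
  · have := Ideal.mem_map_of_mem (algebraMap (MvPolynomial σ R) (MvPolynomial σ K)) hr
    rw [hkey P hP h hπP, Ideal.mem_span_singleton'] at this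
    obtain ⟨w, hw⟩ := this
    obtain ⟨⟨w0, t, ht⟩, hwt⟩ := IsLocalization.surj M w
    obtain ⟨ct, hct, rfl⟩ := ht
    obtain ⟨cs, hcs, rfl⟩ := hs
    refine ⟨ct * cs, mul_ne_zero (nonZeroDivisors.ne_zero hct) (nonZeroDivisors.ne_zero hcs), w0, ?_⟩
    refine hinj ?_
    rw [map_mul C, map_mul, map_mul, map_mul, ← hw, ← hwt, ← hπ]
    ring
  · have := hkey P hP h hπP
    rw [← hkey P' hP' h' hπ'] at this
    rw [← hcomap P h, ← hcomap P' h', this]

end Algebra

section Scheme

variable (σ : Type u) [Finite σ] {X : Scheme.{u}}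

/-- The chart of affine space over an affine open of the base. -/
noncomputable def chart {U : X.Opens} (hU : IsAffineOpen U) :
    Spec (CommRingCat.of (MvPolynomial σ Γ(X, U))) ⟶ 𝔸(σ; X) :=
  (AffineSpace.SpecIso σ Γ(X, U)).inv ≫ AffineSpace.map σ hU.fromSpec

omit [Finite σ] in
theorem chart_isOpenImmersion {U : X.Opens} (hU : IsAffineOpen U) : IsOpenImmersion (chart σ hU) := by
  haveI : IsOpenImmersion (AffineSpace.map σ hU.fromSpec) :=
    MorphismProperty.of_isPullback (AffineSpace.isPullback_map (n := σ) hU.fromSpec).flip inferInstance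
  rw [chart]
  infer_instance

omit [Finite σ] in
theorem chart_over {U : X.Opens} (hU : IsAffineOpen U) :
    chart σ hU ≫ (𝔸(σ; X) ↘ X) =
      Spec.map (CommRingCat.ofHom (MvPolynomial.C (σ := σ) : Γ(X, U) →+* _)) ≫ hU.fromSpec := by
  simp only [chart, Category.assoc, AffineSpace.map_over, AffineSpace.SpecIso_inv_over_assoc]

omit [Finite σ] in
theorem over_chart_apply {U : X.Opens} (hU : IsAffineOpen U)
    (y : ↥(Spec (CommRingCat.of (MvPolynomial σ Γ(X, U))))) :
    (𝔸(σ; X) ↘ X) (chart σ hU y) =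
      hU.fromSpec (Spec.map (CommRingCat.ofHom (MvPolynomial.C (σ := σ) : Γ(X, U) →+* _)) y) := by
  rw [← Scheme.Hom.comp_apply, chart_over, Scheme.Hom.comp_apply]

omit [Finite σ] in
theorem exists_chart_eq {U : X.Opens} (hU : IsAffineOpen U) (y : ↥𝔸(σ; X))
    (hy : (𝔸(σ; X) ↘ X) y ∈ U) : ∃ z, chart σ hU z = y := by
  have h := (AffineSpace.isPullback_map (n := σ) hU.fromSpec).flip
  have hy' : (𝔸(σ; X) ↘ X) y ∈ Set.range hU.fromSpec := by rw [hU.range_fromSpec]; exact hy
  obtain ⟨a, ha⟩ := hy'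
  obtain ⟨t, -, ht⟩ := Scheme.Pullback.Triplet.exists_preimage
    (Scheme.Pullback.Triplet.mk' a y ha)
  refine ⟨(AffineSpace.SpecIso σ Γ(X, U)).hom (h.isoPullback.inv t), ?_⟩
  rw [chart, Scheme.Hom.comp_apply, ← Scheme.Hom.comp_apply (AffineSpace.SpecIso σ Γ(X, U)).hom,
    Iso.hom_inv_id]
  change (AffineSpace.map σ hU.fromSpec) (h.isoPullback.inv t) = y
  rw [← Scheme.Hom.comp_apply, h.isoPullback_inv_snd]
  exact ht

variable [IsIntegral X] [IsLocallyNoetherian X]

omit [IsLocallyNoetherian X] in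
theorem coheight_genericPoint : Order.coheight (genericPoint X) = 0 :=
  Order.coheight_eq_zero.2 fun y _ => Scheme.le_iff_specializes.2 (genericPoint_specializes y)

omit [Finite σ] [IsLocallyNoetherian X] in
theorem over_genericPoint : (𝔸(σ; X) ↘ X) (genericPoint 𝔸(σ; X)) = genericPoint X := by
  obtain ⟨_, ⟨U, hU, rfl⟩, hxU, -⟩ :=
    X.isBasis_affineOpens.exists_subset_of_mem_open (Set.mem_univ (genericPoint X)) isOpen_univ
  replace hU : IsAffineOpen U := hU
  haveI : Nonempty U := ⟨⟨_, hxU⟩⟩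
  haveI := chart_isOpenImmersion σ hU
  rw [← genericPoint_eq_of_isOpenImmersion (chart σ hU), over_chart_apply,
    specMap_genericPoint _ (MvPolynomial.C_injective σ Γ(X, U))]
  exact genericPoint_eq_of_isOpenImmersion hU.fromSpec

/-- A codimension one point not over the generic point, described in a chart. -/
theorem vertical {U : X.Opens} [Nonempty U] (hU : IsAffineOpen U) {y : ↥𝔸(σ; X)}
    (hyU : (𝔸(σ; X) ↘ X) y ∈ U) (hy : coheight y = 1) (hv : (𝔸(σ; X) ↘ X) y ≠ genericPoint X) :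
    coheight ((𝔸(σ; X) ↘ X) y) = 1 ∧ ∃ z : ↥(Spec Γ(X, U)), hU.fromSpec z = (𝔸(σ; X) ↘ X) y ∧
      ∃ w, chart σ hU w = y ∧ w.asIdeal = z.asIdeal.map (MvPolynomial.C (σ := σ)) := by
  haveI := chart_isOpenImmersion σ hU
  haveI : IsNoetherianRing Γ(X, U) := IsLocallyNoetherian.component_noetherian ⟨U, hU⟩
  obtain ⟨w, rfl⟩ := exists_chart_eq σ hU y hyU
  rw [over_chart_apply] at hv ⊢
  have hw : w.asIdeal.height = 1 :=
    (idealHeight_eq_coheight _ w).trans ((coheight_eq_of_isOpenImmersion (chart σ hU)).symm.trans hy)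
  haveI : w.asIdeal.IsPrime := PrimeSpectrum.isPrime w
  have hne : w.asIdeal.comap (MvPolynomial.C (σ := σ) : Γ(X, U) →+* _) ≠ ⊥ := fun h0 => hv (by
    rw [show Spec.map (CommRingCat.ofHom (MvPolynomial.C (σ := σ) : Γ(X, U) →+* _)) w =
        genericPoint (Spec (CommRingCat.of Γ(X, U))) by
      rw [genericPoint_eq_bot_of_affine]; exact PrimeSpectrum.ext h0]
    exact genericPoint_eq_of_isOpenImmersion hU.fromSpec)
  obtain ⟨he, hh⟩ := eq_map_C_of_height_one w.asIdeal hw hne
  refine ⟨?_, _, rfl, w, rfl, he⟩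
  rw [coheight_eq_of_isOpenImmersion, ← idealHeight_eq_coheight]
  exact hh

theorem vertical_unique {y y' : ↥𝔸(σ; X)} (hy : coheight y = 1) (hy' : coheight y' = 1)
    (hv : (𝔸(σ; X) ↘ X) y ≠ genericPoint X) (h : (𝔸(σ; X) ↘ X) y = (𝔸(σ; X) ↘ X) y') : y = y' := by
  obtain ⟨_, ⟨U, hU, rfl⟩, hxU, -⟩ :=
    X.isBasis_affineOpens.exists_subset_of_mem_open (Set.mem_univ ((𝔸(σ; X) ↘ X) y)) isOpen_univ
  replace hU : IsAffineOpen U := hU
  haveI : Nonempty U := ⟨⟨_, hxU⟩⟩
  obtain ⟨-, z, hz, w, hw, hwz⟩ := vertical σ hU hxU hy hv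
  obtain ⟨-, z', hz', w', hw', hwz'⟩ := vertical σ hU (h ▸ hxU) hy' (h ▸ hv)
  have hzz : z = z' := hU.fromSpec.isOpenEmbedding.injective (hz.trans (h.trans hz'.symm))
  rw [← hw, ← hw', PrimeSpectrum.ext (hwz.trans (hzz ▸ hwz'.symm))]

end Scheme

end Groth.Agent.WDivLib
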